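import Cfsg.Agent.H0.YL34.D
set_option maxRecDepth 100000
set_option Elab.async false
set_option linter.unusedSectionVars false
namespace H0.YL34
open H0 BN 
open H0.ML34 (R)
universe u
variable {G : Type u} [Group G] [Finite G] (m0 : Model G) (h0 : m0.R = R) (hb : m0.pst [3, 2, 1, 0] = ⊥) (hc : Nat.card G = 20160)
include h0 hb hc
theorem base : m0.pst [3, 2, 1, 0] = ⊥ := hb
omit hb hc in
theorem ch_ok : m0.ChainOK ch [] := (m0.chain_cons [0, 1, 0, 1, 0, 1, 0, 1] (Model.via _ h0 (fun R => Model.fixP R [] [[0], [1]]) c6) (Model.via _ h0 (fun R => Model.growP R [[0], [1]] [0, 1, 0, 1, 0, 1, 0, 1] 0 21) c7) (m0.chain_cons [0, 1, 0, 1, 0, 1] (Model.via _ h0 (fun R => Model.fixP R [0] [[3], [5]]) c4) (Model.via _ h0 (fun R => Model.growP R [[3], [5]] [0, 1, 0, 1, 0, 1] 1 20) c5) (m0.chain_cons [0, 1, 2, 0, 1] (Model.via _ h0 (fun R => Model.fixP R [1, 0] [[7], [8], [9]]) c2) (Model.via _ h0 (fun R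 => Model.growP R [[7], [8], [9]] [0, 1, 2, 0, 1] 2 16) c3) (m0.chain_cons [0, 0] (Model.via _ h0 (fun R => Model.fixP R [2, 1, 0] [[11]]) c0) (Model.via _ h0 (fun R => Model.growP R [[11]] [0, 0] 3 3) c1) (m0.chain_nil _)))))
theorem E4 : m0.Enum (nat_lit 21) (nat_lit 5) [3, 2, 1, 0] L4 := m0.enum_base (base m0 h0 hb hc) (by decide +kernel)
theorem I3 : m0.Inv (m0.pst [2, 1, 0]) 56 := ((m0.chain_pst (ch_ok m0 h0) (hc.trans (by decide +kernel)) 3).symm ▸ m0.inv_of_invB (Model.via _ h0 (fun R => Model.invB R (Model.cgens (ch.drop 3)) 56) c8) :)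
theorem F3 : m0.Enum2 (nat_lit 21) (nat_lit 5) [2, 1, 0] T3 L4 := m0.enum_step (I3 m0 h0 hb hc) (Model.via _ h0 (fun R => levB R (nat_lit 21) (nat_lit 5) [2, 1, 0] 3 56 0x149ca307b9ac5a928398a418820 [([11], 0x13951f18358e5256641c6520820)] p3 T3) c9) (E4 m0 h0 hb hc)
theorem E3 : m0.Enum (nat_lit 21) (nat_lit 5) [2, 1, 0] L3 := (F3 m0 h0 hb hc).enum (eq_of_beq c10)
theorem I2 : m0.Inv (m0.pst [1, 0]) 262140 := ((m0.chain_pst (ch_ok m0 h0) (hc.trans (by decide +kernel)) 2).symm ▸ m0.inv_of_invB (Model.via _ h0 (fun R => Model.invB R (Model.cgens (ch.drop 2)) 262140) c11) :)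
theorem F2 : m0.Enum2 (nat_lit 21) (nat_lit 5) [1, 0] T2 L3 := m0.enum_step (I2 m0 h0 hb hc) (Model.via _ h0 (fun R => levB R (nat_lit 21) (nat_lit 5) [1, 0] 2 262140 0x149ca307b9ac5a928398a418820 [([7], 0x149c8c92b04e21e03545eb43420), ([8], 0x149ca11128a71b8c4625a85bc20), ([9], 0x139512d2c48b1bdc23a15061820)] p2 T2) c12) (E3 m0 h0 hb hc)
theorem E2 : m0.Enum (nat_lit 21) (nat_lit 5) [1, 0] L2 := (F2 m0 h0 hb hc).enum (eq_of_beq c13)
theorem I1 : m0.Inv (m0.pst [0]) 2097150 := ((m0.chain_pst (ch_ok m0 h0) (hc.trans (by decide +kernel)) 1).symm ▸ m0.inv_of_invB (Model.via _ h0 (fun R => Model.invB R (Model.cgens (ch.drop 1)) 2097150) c14) :)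
theorem F1 : m0.Enum2 (nat_lit 21) (nat_lit 5) [0] T1 L2 := m0.enum_step (I1 m0 h0 hb hc) (Model.via _ h0 (fun R => levB R (nat_lit 21) (nat_lit 5) [0] 1 2097150 0x149ca307b9ac5a928398a418820 [([3], 0xf435519328999cc18384321560), ([5], 0xe3a5b423c72285025ccd053220)] p1 T1) c15) (E2 m0 h0 hb hc)
theorem reps : m0.Reps (nat_lit 21) (nat_lit 5) (X.map (·.1.2)) :=
  m0.reps_of (m0.lt_of_inv ((m0.chain_top (ch_ok m0 h0) (hc.trans (by decide +kernel))) ▸ m0.inv_of_invB (Model.via _ h0 (fun R => Model.invB R (Model.cgens ch) (2 ^ 21 - 1)) c17) :) (by decide)) [[3], [5]] (Model.via _ h0 (fun R => Model.repB R (nat_lit 21) (nat_lit 5) 21 [[3], [5]] X) c16)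
omit h0 hb hc in
theorem sl : Model.SpecLe (nat_lit 21) (nat_lit 5) (nat_lit 7) (nat_lit 190) [3, 2, 1, 0] (X.map (·.1.2)) U0 L2 := (Model.specLe_of c18)
theorem spec : Set.range (orderOf : G → ℕ) = {d | d ∈ [1, 2, 3, 4, 5, 7]} :=
  m0.spec_eq (base m0 h0 hb hc) (m0.spec_le (base m0 h0 hb hc) (by decide) (reps m0 h0 hb hc) (F1 m0 h0 hb hc) sl) (Model.via _ h0 (fun R => H6.allL (ordB R [3, 2, 1, 0]) E) c19) (K := 8) (by decide +kernel)
end H0.YL34
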